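import Mathlib
import Groth.Agent.NormSect.Basic
/-!
Rational sections of integral morphisms over normal schemes extend.
-/
universe u
open AlgebraicGeometry CategoryTheory TopologicalSpace
set_option backward.isDefEq.respectTransparency false

namespace Groth.Agent.IntegralSect

variable {X X' : Scheme.{u}} [IsIntegral X]

/-- the generic point as a morphism to an open containing it -/
noncomputable def gamma (O : X.Opens) (hO : genericPoint X ∈ O) :
    Spec X.functionField ⟶ (O : Scheme.{u}) :=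
  IsOpenImmersion.lift O.ι (X.fromSpecStalk (genericPoint X)) (by
    rw [Scheme.range_fromSpecStalk, Scheme.Opens.range_ι]
    exact fun y hy => hy.mem_open O.2 hO)

theorem gamma_ι (O : X.Opens) (hO : genericPoint X ∈ O) :
    gamma O hO ≫ O.ι = X.fromSpecStalk (genericPoint X) :=
  IsOpenImmersion.lift_fac _ _ _

theorem gamma_homOfLE {O O' : X.Opens} (hO : genericPoint X ∈ O) (h : O ≤ O') :
    gamma O hO ≫ X.homOfLE h = gamma O' (h hO) := by
  rw [← cancel_mono O'.ι, Category.assoc, Scheme.homOfLE_ι, gamma_ι, gamma_ι]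

theorem isDominant_gamma (O : X.Opens) (hO : genericPoint X ∈ O) : IsDominant (gamma O hO) := by
  refine ⟨fun p => ?_⟩
  obtain ⟨z, hz⟩ : genericPoint X ∈ Set.range (X.fromSpecStalk (genericPoint X)) := by
    rw [Scheme.range_fromSpecStalk]
    exact specializes_rfl
  have h1 : O.ι (gamma O hO z) ⤳ O.ι p := by
    have e : O.ι (gamma O hO z) = genericPoint X := by
      rw [← hz, ← gamma_ι O hO]; rfl
    rw [e]
    exact (genericPoint_spec X).specializes (Set.mem_univ _)
  exact (O.ι.isOpenEmbedding.isInducing.specializes_iff.1 h1).mem_closed isClosed_closure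
    (subset_closure ⟨z, rfl⟩)

theorem hom_ext (g : X' ⟶ X) [IsSeparated g] (O : X.Opens) (hO : genericPoint X ∈ O)
    {a b : (O : Scheme.{u}) ⟶ X'} (hab : a ≫ g = b ≫ g) (h : gamma O hO ≫ a = gamma O hO ≫ b) :
    a = b := by
  haveI := isDominant_gamma O hO
  exact ext_of_isDominant_of_isSeparated g hab (gamma O hO) h

theorem gamma_isoSpec (V : X.Opens) (hV : IsAffineOpen V) (hη : genericPoint X ∈ V) :
    gamma V hη ≫ hV.isoSpec.hom = Spec.map (X.presheaf.germ V (genericPoint X) hη) := by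
  rw [← cancel_mono hV.fromSpec, Category.assoc, IsAffineOpen.isoSpec_hom,
    IsAffineOpen.toSpecΓ_fromSpec, gamma_ι]
  exact (hV.fromSpecStalk_eq_fromSpecStalk hη).symm

theorem exists_local (g : X' ⟶ X) [IsIntegralHom g]
    (hX : ∀ x : X, IsIntegrallyClosed (X.presheaf.stalk x))
    (U : X.Opens) (hηU : genericPoint X ∈ U) (s : (U : Scheme.{u}) ⟶ X') (hs : s ≫ g = U.ι)
    (V : X.Opens) (hV : IsAffineOpen V) (hη : genericPoint X ∈ V) :
    ∃ t : (V : Scheme.{u}) ⟶ X', t ≫ g = V.ι ∧ gamma V hη ≫ t = gamma U hηU ≫ s := by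
  haveI : Nonempty (V : Scheme.{u}) := ⟨⟨_, hη⟩⟩
  haveI := functionField_isFractionRing_of_isAffineOpen X V hV
  have hB := hV.preimage g
  let m := gamma U hηU ≫ s
  have hm : m ≫ g = X.fromSpecStalk (genericPoint X) := by
    rw [Category.assoc, hs, gamma_ι]
  have hr : Set.range m ⊆ Set.range hB.fromSpec := by
    rintro _ ⟨z, rfl⟩
    rw [hB.range_fromSpec]
    change g (m z) ∈ V
    rw [← Scheme.Hom.comp_apply, hm]
    have hz : X.fromSpecStalk (genericPoint X) z ∈ Set.range (X.fromSpecStalk (genericPoint X)) := ⟨z, rfl⟩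
    rw [Scheme.range_fromSpecStalk] at hz
    exact hz.mem_open V.2 hη
  obtain ⟨ψ, hψ⟩ := Spec.homEquiv.symm.surjective (IsOpenImmersion.lift hB.fromSpec m hr)
  have hψm : Spec.map ψ ≫ hB.fromSpec = m :=
    (congrArg (· ≫ hB.fromSpec) hψ).trans (IsOpenImmersion.lift_fac _ _ _)
  have happ : g.app V ≫ ψ = X.presheaf.germ V (genericPoint X) hη := by
    apply Spec.map_injective
    rw [← cancel_mono hV.fromSpec, Spec.map_comp, Category.assoc]
    have h := hV.SpecMap_appLE_fromSpec g hB le_rfl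
    rw [← Scheme.Hom.app_eq_appLE] at h
    rw [h, ← Category.assoc, hψm, hm]
    exact (hV.fromSpecStalk_eq_fromSpecStalk hη).symm
  haveI := Groth.Agent.NormSect.isIntegrallyClosed_sections V fun x _ => hX x
  have hint : ∀ b : Γ(X', g ⁻¹ᵁ V), ∃ a : Γ(X, V), algebraMap Γ(X, V) X.functionField a = ψ b := by
    intro b
    refine IsIntegrallyClosed.isIntegral_iff.1 ?_
    obtain ⟨P, hP, h0⟩ := IsIntegralHom.isIntegral_app g V hV b
    refine ⟨P, hP, ?_⟩
    have e : (algebraMap Γ(X, V) X.functionField) = ψ.hom.comp (g.app V).hom := by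
      rw [← CommRingCat.hom_comp, happ]; rfl
    rw [e, ← Polynomial.hom_eval₂, h0, map_zero]
  choose a ha using hint
  have hinj := IsFractionRing.injective Γ(X, V) X.functionField
  let ρ : Γ(X', g ⁻¹ᵁ V) ⟶ Γ(X, V) := CommRingCat.ofHom
    { toFun := a
      map_one' := hinj (by rw [ha, map_one, map_one])
      map_mul' := fun x y => hinj (by rw [ha, map_mul, map_mul, ha, ha])
      map_zero' := hinj (by rw [ha, map_zero, map_zero])
      map_add' := fun x y => hinj (by rw [ha, map_add, map_add, ha, ha]) }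
  have hρg : g.app V ≫ ρ = 𝟙 _ := by
    ext r
    apply hinj
    change algebraMap Γ(X, V) X.functionField (a (g.app V r)) = _
    rw [ha]
    exact ConcreteCategory.congr_hom happ r
  have hρψ : ρ ≫ X.presheaf.germ V (genericPoint X) hη = ψ := by
    ext b
    exact ha b
  refine ⟨hV.isoSpec.hom ≫ Spec.map ρ ≫ hB.fromSpec, ?_, ?_⟩
  · have h := hV.SpecMap_appLE_fromSpec g hB le_rfl
    rw [← Scheme.Hom.app_eq_appLE] at h
    simp only [Category.assoc, ← h]
    rw [← Spec.map_comp_assoc, hρg, Spec.map_id, Category.id_comp, IsAffineOpen.isoSpec_hom,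
      IsAffineOpen.toSpecΓ_fromSpec]
  · rw [← Category.assoc, gamma_isoSpec, ← Spec.map_comp_assoc, hρψ, hψm]

theorem exists_section (g : X' ⟶ X) [IsIntegralHom g]
    (hX : ∀ x : X, IsIntegrallyClosed (X.presheaf.stalk x))
    (U : X.Opens) (hηU : genericPoint X ∈ U) (s : (U : Scheme.{u}) ⟶ X') (hs : s ≫ g = U.ι) :
    ∃ s' : X ⟶ X', s' ≫ g = 𝟙 X ∧ U.ι ≫ s' = s := by
  let I := {V : X.Opens // IsAffineOpen V ∧ genericPoint X ∈ V}
  choose t ht htγ using fun V : I => exists_local g hX U hηU s hs V.1 V.2.1 V.2.2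
  have hcov : ⨆ V : I, V.1 = ⊤ := by
    refine top_le_iff.1 fun x _ => ?_
    obtain ⟨V, hV, hxV, -⟩ := exists_isAffineOpen_mem_and_subset (show x ∈ (⊤ : X.Opens) from trivial)
    exact Opens.mem_iSup.2 ⟨⟨V, hV, ((genericPoint_spec X).specializes (Set.mem_univ x)).mem_open V.2 hxV⟩, hxV⟩
  let 𝒰 := X.openCoverOfIsOpenCover _ (IsOpenCover.mk hcov)
  have hglue : ∀ i j : I, X.homOfLE (inf_le_left : i.1 ⊓ j.1 ≤ i.1) ≫ t i =
      X.homOfLE (inf_le_right : i.1 ⊓ j.1 ≤ j.1) ≫ t j := by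
    intro i j
    refine hom_ext g (i.1 ⊓ j.1) ⟨i.2.2, j.2.2⟩ ?_ ?_
    · rw [Category.assoc, Category.assoc, ht, ht, Scheme.homOfLE_ι, Scheme.homOfLE_ι]
    · rw [← Category.assoc, ← Category.assoc, gamma_homOfLE, gamma_homOfLE, htγ, htγ]
  have hcompat : ∀ i j : I, Limits.pullback.fst (𝒰.f i) (𝒰.f j) ≫ t i =
      Limits.pullback.snd (𝒰.f i) (𝒰.f j) ≫ t j := by
    intro i j
    let e := (isPullback_opens_inf i.1 j.1).isoPullback
    have h1 : e.hom ≫ Limits.pullback.fst (𝒰.f i) (𝒰.f j) = X.homOfLE (inf_le_left : i.1 ⊓ j.1 ≤ i.1) :=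
      (isPullback_opens_inf i.1 j.1).isoPullback_hom_fst
    have h2 : e.hom ≫ Limits.pullback.snd (𝒰.f i) (𝒰.f j) = X.homOfLE (inf_le_right : i.1 ⊓ j.1 ≤ j.1) :=
      (isPullback_opens_inf i.1 j.1).isoPullback_hom_snd
    refine (cancel_epi e.hom).1 ?_
    exact ((Category.assoc _ _ _).symm.trans (congrArg (· ≫ t i) h1)).trans ((hglue i j).trans
      ((congrArg (· ≫ t j) h2).symm.trans (Category.assoc _ _ _)))
  let s' := 𝒰.glueMorphisms t hcompat
  have hs' : ∀ i : I, i.1.ι ≫ s' = t i := fun i => 𝒰.ι_glueMorphisms t hcompat i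
  have hsg : s' ≫ g = 𝟙 X := by
    refine 𝒰.hom_ext _ _ fun i => ?_
    change i.1.ι ≫ s' ≫ g = i.1.ι ≫ 𝟙 X
    rw [← Category.assoc, hs', ht, Category.comp_id]
  refine ⟨s', hsg, hom_ext g U hηU (by rw [Category.assoc, hsg, Category.comp_id, hs]) ?_⟩
  obtain ⟨V, hV, hη, -⟩ := exists_isAffineOpen_mem_and_subset
    (show genericPoint X ∈ (⊤ : X.Opens) from trivial)
  rw [← Category.assoc, gamma_ι, ← gamma_ι V hη, Category.assoc, hs' ⟨V, hV, hη⟩]
  exact htγ ⟨V, hV, hη⟩

end Groth.Agent.IntegralSect
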